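import Groth.Agent.L04.FrobH1.Main
import Groth.Agent.L06.FrobSplitTwist
import Groth.Agent.L20.ResAmple
import Groth.Agent.L17.PullBasis
import Groth.Agent.L29.LocFree
import Groth.Agent.L16.NegPow.Gen
import Groth.Agent.L18.Ample

/-!
Frobenius pull-back on `H¹`.
-/

set_option autoImplicit false
set_option maxSynthPendingDepth 3
set_option linter.style.haveILetI false
set_option backward.isDefEq.respectTransparency.types false
set_option backward.isDefEq.respectTransparency false

universe u

open CategoryTheory CategoryTheory.Limits AlgebraicGeometry TopologicalSpace Opposite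

noncomputable section

namespace Groth.L04.FrobH1

open Groth.L18.Frame (rs IsFrame)
open Groth.L12.FrobLift (pf pf_smul isFrame_pf)

variable {k : Type u} [Field k] [PerfectField k] {p : ℕ} [Fact p.Prime] [CharP k p]
  {X : Scheme.{u}} [AlgebraicGeometry.IsIntegral X] (f : X ⟶ Spec (CommRingCat.of k))
  [QuasiSeparated f]

omit [AlgebraicGeometry.IsIntegral X] in
theorem isBas_of_isFrame {M : X.Modules} {W : X.Opens} {e : Γ(M, W)} (he : IsFrame M W e) :
    IsBas M W fun _ : Fin 1 => e := fun V h => by
  refine Eq.mp (congrArg Function.Bijective ?_) ((he V h).comp (Equiv.funUnique (Fin 1) Γ(X, V)).bijective)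
  funext r
  exact (Fin.sum_univ_one (fun i => r i • rs M h e)).symm

omit [Field k] [PerfectField k] [CharP k p] [AlgebraicGeometry.IsIntegral X] [Fact p.Prime] in
theorem natCast_top {k : Type u} [Field k] [CharP k p] (f : X ⟶ Spec (CommRingCat.of k)) :
    (p : Γ(X, ⊤)) = 0 := by
  have h := congrArg (Coh.toGlobal f) (CharP.cast_eq_zero k p)
  rwa [map_natCast, map_zero] at h

/-- The unit `E → F_* F^* E` is injective on `H¹` when `F^* E ⊗ Ω` has no global sections. -/
theorem injective_H1_unit (hX : Pi1.IsNormalScheme X) [FrobSch.IsCharP X p] (E : X.Modules)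
    (hE : FlatMod.IsFinLocFree E)
    (h0 : Subsingleton (Coh.HH X (CohB1.tensorMod ((Scheme.Modules.pullback (FrobSch.frob X p)).obj E)
      (Omega.sheaf f)) 0)) :
    Function.Injective (Sheaf.H.map ((SheafOfModules.toSheaf X.ringCatSheaf).map
      ((Scheme.Modules.pullbackPushforwardAdjunction (FrobSch.frob X p)).unit.app E)) 1) := by
  let G := (Scheme.Modules.pullback (FrobSch.frob X p)).obj E
  let η : E ⟶ (Scheme.Modules.pushforward (FrobSch.frob X p)).obj G :=
    (Scheme.Modules.pullbackPushforwardAdjunction (FrobSch.frob X p)).unit.app E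
  let ψ : Coh.toAb E ⟶ Coh.toAb ((Scheme.Modules.pushforward (FrobSch.frob X p)).obj G) :=
    (SheafOfModules.toSheaf X.ringCatSheaf).map η
  show Function.Injective (Sheaf.H.map ψ 1)
  let ι : Coh.toAb ((Scheme.Modules.pushforward (FrobSch.frob X p)).obj G) ⟶ Coh.toAb G :=
    ⟨{ app := fun U => AddCommGrpCat.ofHom
        { toFun := fun z => (show Γ(G, U.unop) from z)
          map_zero' := rfl
          map_add' := fun _ _ => rfl }
       naturality := fun U V g => ConcreteCategory.hom_ext _ _ fun z => rfl }⟩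
  have key : Function.Injective (Sheaf.H.map (ψ ≫ ι) 1) :=
    injective_H1 (M := E) (P := G) (ψ ≫ ι) (fun U a x => Scheme.Modules.Hom.app_smul η a x)
      (OmegaSh.dOmega f) (Groth.L29.LocFree.pullback _ hE)
      (fun U b hb => exists_pow_eq p f hX U b hb) (fun x => by
        obtain ⟨W, n, e, hxW, he⟩ := exists_isBas hE x
        exact ⟨W, n, e, hxW, he, isBas_of_isBasis
          (Groth.L17.PullBasis.isBasis_pullback (FrobSch.frob X p) E e (isBasis_of_isBas he))⟩) h0
  intro v w h
  refine key ?_
  rw [Sheaf.H.map_comp_apply, Sheaf.H.map_comp_apply, h]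

/-- `H¹(L) = 0` when `H¹(L^p) = 0` and `L^p ⊗ Ω` has no global sections. -/
theorem subsingleton_H1_of_pow (hX : Pi1.IsNormalScheme X) {L : X.Modules} (hL : PicF.IsInvertible L)
    (h0 : Subsingleton (Coh.HH X (CohB1.tensorMod (CohB1.tensorPow L p) (Omega.sheaf f)) 0))
    (h1 : Subsingleton (Coh.HH X (CohB1.tensorPow L p) 1)) : Subsingleton (Coh.HH X L 1) := by
  haveI : FrobSch.IsCharP X p := ⟨natCast_top f⟩
  let φ := Groth.L06.FrobSplitTwist.powL (Fact.out : p.Prime) (natCast_top f) L hL
  haveI : Subsingleton (Sheaf.H (Coh.toAb (CohB1.tensorPow L p)) 1) := h1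
  refine (injective_H1 φ (fun U a x => pf_smul a x p) (OmegaSh.dOmega f)
    (Groth.L20.ResDescent.isFinLocFree_of_isInvertible (Groth.L18.Ample.isInvertible_tensorPow hL p))
    (fun U b hb => exists_pow_eq p f hX U b hb) (fun x => ?_) h0).subsingleton
  obtain ⟨W, e, hxW, he⟩ := Groth.L18.Frame.exists_frame hL x
  exact ⟨W, 1, fun _ => e, hxW, isBas_of_isFrame he, isBas_of_isFrame (isFrame_pf he p)⟩

end Groth.L04.FrobH1
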