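import Groth.Agent.L06.PBasisField
import Groth.Agent.L19.OmegaSh.Affine
import Groth.Agent.L19.OmegaSh.Universal
import Groth.Agent.L21.NormalAffine
import Groth.Prelude.Def_Pi1
import Groth.Prelude.Def_Frob
import Groth.Prelude.Def_Coh
import Mathlib.AlgebraicGeometry.FunctionField
import Mathlib.RingTheory.Localization.FractionRing
import Mathlib.FieldTheory.Perfect

/-!
On a normal variety over a perfect field of characteristic `p` the closed functions are `p`-th powers.
-/

set_option autoImplicit false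
set_option maxSynthPendingDepth 3
set_option linter.style.haveILetI false
set_option backward.isDefEq.respectTransparency.types false
set_option backward.isDefEq.respectTransparency false

universe u

open CategoryTheory AlgebraicGeometry TopologicalSpace Opposite

noncomputable section

namespace Groth.L04.FrobH1

open Groth.L18.Frame (rs ro rs_rs ro_ro ro_self)

/-- In a field over a perfect field, an element with zero differential is a `p`-th power. -/
theorem exists_pow_eq_field {k K : Type u} [Field k] [Field K] [Algebra k K] [PerfectField k]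
    (p : ℕ) [Fact p.Prime] [CharP K p] {x : K} (hx : KaehlerDifferential.D k K x = 0) :
    ∃ y : K, y ^ p = x := by
  haveI : CharP k p := (RingHom.charP_iff (algebraMap k K) (algebraMap k K).injective p).2 inferInstance
  haveI : ExpChar k p := ExpChar.prime Fact.out
  haveI : ExpChar K p := ExpChar.prime Fact.out
  haveI : PerfectRing k p := PerfectField.toPerfectRing p
  let F₀ : IntermediateField k K :=
    Subfield.toIntermediateField (frobenius K p).fieldRange fun c => by
      obtain ⟨d, rfl⟩ := surjective_frobenius k p c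
      exact ⟨algebraMap k K d, by rw [frobenius_def, frobenius_def, map_pow]⟩
  have hle : IntermediateField.adjoin k ((Set.range fun y : K => y ^ p) ∪ ∅) ≤ F₀ :=
    IntermediateField.adjoin_le_iff.2 (by
      rintro _ (⟨y, rfl⟩ | h)
      · exact ⟨y, rfl⟩
      · exact h.elim)
  by_contra hc
  obtain ⟨D, -, hD⟩ := Groth.L06.PBasisField.exists_der p (k := k) (s := (∅ : Set K)) (c := x)
    fun h => hc (hle h)
  have h1 := Derivation.liftKaehlerDifferential_comp_D D x
  rw [hx, map_zero, hD] at h1
  exact zero_ne_one h1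

/-- In a normal domain over a perfect field, an element with zero differential is a `p`-th power. -/
theorem exists_pow_eq_domain {k A : Type u} [Field k] [CommRing A] [IsDomain A] [Algebra k A]
    [IsIntegrallyClosed A] [PerfectField k] (p : ℕ) [Fact p.Prime] [CharP k p] {a : A}
    (ha : KaehlerDifferential.D k A a = 0) : ∃ b : A, b ^ p = a := by
  let K := FractionRing A
  haveI : CharP K p := (RingHom.charP_iff (algebraMap k K) (algebraMap k K).injective p).1 inferInstance
  have hK : KaehlerDifferential.D k K (algebraMap A K a) = 0 := by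
    rw [← KaehlerDifferential.map_D k k A K, ha, map_zero]
  obtain ⟨y, hy⟩ := exists_pow_eq_field p hK
  obtain ⟨b, rfl⟩ := IsIntegrallyClosed.algebraMap_eq_of_integral (R := A) (x := y)
    (IsIntegral.of_pow (Fact.out : p.Prime).pos (hy ▸ isIntegral_algebraMap))
  exact ⟨b, IsFractionRing.injective A K (by rw [map_pow, hy])⟩

variable {k : Type u} [Field k] [PerfectField k] (p : ℕ) [Fact p.Prime] [CharP k p]
  {X : Scheme.{u}} [AlgebraicGeometry.IsIntegral X] (f : X ⟶ Spec (CommRingCat.of k))
  [QuasiSeparated f]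

/-- A closed function on an affine open is a `p`-th power. -/
theorem exists_pow_eq_affine (hX : Pi1.IsNormalScheme X) {V : X.Opens} (hV : IsAffineOpen V)
    [Nonempty V] (b : Γ(X, V)) (hb : (OmegaSh.dOmega f).app V b = 0) :
    ∃ a : Γ(X, V), a ^ p = b := by
  let A : CommRingCat.{u} := Γ(X, V)
  let φ : CommRingCat.of k ⟶ A := (Scheme.ΓSpecIso (CommRingCat.of k)).inv ≫ f.appLE ⊤ V le_top
  letI : Algebra k Γ(X, V) := φ.hom.toAlgebra
  haveI : IsIntegrallyClosed Γ(X, V) := Groth.L21.isIntegrallyClosed_of_normal hX hV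
  refine exists_pow_eq_domain p (k := k) ?_
  have hjk : Spec.map (CommRingCat.ofHom (algebraMap k Γ(X, V))) ≫ 𝟙 _ = hV.fromSpec ≫ f := by
    rw [Category.comp_id, ← IsAffineOpen.SpecMap_appLE_fromSpec f (isAffineOpen_top _) hV le_top,
      IsAffineOpen.fromSpec_top]
    show Spec.map φ = _
    rw [Spec.map_comp, Scheme.isoSpec_Spec_inv]
  obtain ⟨e, he⟩ := Groth.L19.OmegaSh.exists_chart (Groth.L19.OmegaSh.isUniversal_dOmega (f := f))
    (R := k) (A := Γ(X, V)) hV.fromSpec (𝟙 _) hjk
  have hle : hV.fromSpec ''ᵁ ⊤ ≤ V := by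
    rw [Scheme.Hom.image_top_eq_opensRange, hV.opensRange_fromSpec]
  have hc : (hV.fromSpec.appIso ⊤).inv ((Scheme.ΓSpecIso Γ(X, V)).inv b) = ro hle b := by
    refine (ConcreteCategory.bijective_of_isIso (hV.fromSpec.appIso ⊤).hom).1 ?_
    rw [← CommRingCat.comp_apply, Iso.inv_hom_id, CommRingCat.id_apply, Scheme.Hom.appIso_hom',
      ← CommRingCat.comp_apply, Scheme.Hom.map_appLE, Scheme.Hom.appLE, hV.fromSpec_app_self,
      Category.assoc, ← Functor.map_comp, CommRingCat.comp_apply]
    exact (ro_self (X := Spec Γ(X, V)) le_rfl _).symm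
  have h0 : (Groth.L19.OmegaSh.resDer hV.fromSpec (OmegaSh.dOmega f)).app ⊤
      ((Scheme.ΓSpecIso Γ(X, V)).inv b) = 0 := by
    show (OmegaSh.dOmega f).app (hV.fromSpec ''ᵁ ⊤)
      ((hV.fromSpec.appIso ⊤).inv ((Scheme.ΓSpecIso Γ(X, V)).inv b)) = 0
    rw [hc, Groth.L19.OmegaSh.der_map, hb]
    exact map_zero _
  have h1 := he b
  rw [h0, map_zero] at h1
  refine (ConcreteCategory.bijective_of_isIso (tilde.toOpen (R := CommRingCat.of Γ(X, V))
    (ModuleCat.of Γ(X, V) (KaehlerDifferential k Γ(X, V))) ⊤)).1 ?_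
  rw [← h1, map_zero]

/-- A closed function on any open is a `p`-th power. -/
theorem exists_pow_eq (hX : Pi1.IsNormalScheme X) (U : X.Opens) (b : Γ(X, U))
    (hb : (OmegaSh.dOmega f).app U b = 0) : ∃ a : Γ(X, U), a ^ p = b := by
  have hcov : ∀ x : U, ∃ V : X.Opens, x.1 ∈ V ∧ ∃ h : V ≤ U, ∃ a : Γ(X, V), a ^ p = ro h b := fun x => by
    obtain ⟨_, ⟨V, hV, rfl⟩, hxV, hVU⟩ := X.isBasis_affineOpens.exists_subset_of_mem_open x.2 U.2
    haveI : Nonempty V := ⟨⟨x.1, hxV⟩⟩
    refine ⟨V, hxV, hVU, exists_pow_eq_affine p f hX hV _ ?_⟩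
    rw [Groth.L19.OmegaSh.der_map, hb]
    exact map_zero _
  choose V hxV hVU a ha using hcov
  have h0 : (p : Γ(X, ⊤)) = 0 := by
    have h := congrArg (Coh.toGlobal f) (CharP.cast_eq_zero k p)
    rwa [map_natCast, map_zero] at h
  have hinj : ∀ (W : X.Opens) (s t : Γ(X, W)), s ^ p = t ^ p → s = t := fun W s t h => by
    haveI : FrobSch.IsCharP X p := ⟨h0⟩
    have hW : (p : Γ(X, W)) = 0 := FrobSch.natCast_eq_zero_app X p W
    rcases subsingleton_or_nontrivial Γ(X, W) with hs | hs
    · exact Subsingleton.elim _ _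
    haveI : CharP Γ(X, W) p := (CharP.charP_iff_prime_eq_zero Fact.out).2 hW
    exact frobenius_inj Γ(X, W) p h
  obtain ⟨c, hc, -⟩ := X.sheaf.existsUnique_gluing' V U (fun x => homOfLE (hVU x))
    (fun x hx => Opens.mem_iSup.2 ⟨⟨x, hx⟩, hxV _⟩) a (fun i j => by
      refine hinj _ _ _ ?_
      show (ro inf_le_left (a i)) ^ p = (ro inf_le_right (a j)) ^ p
      rw [← map_pow, ← map_pow, ha, ha]
      exact (ro_ro _ _ b).trans (ro_ro _ _ b).symm)
  let c' : Γ(X, U) := c
  refine ⟨c', X.sheaf.eq_of_locally_eq' V U (fun x => homOfLE (hVU x))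
    (fun x hx => Opens.mem_iSup.2 ⟨⟨x, hx⟩, hxV _⟩) _ _ fun x => ?_⟩
  show ro (hVU x) (c' ^ p) = ro (hVU x) b
  refine Eq.trans (map_pow (X.presheaf.map (homOfLE (hVU x)).op).hom c' p) ?_
  rw [show (X.presheaf.map (homOfLE (hVU x)).op).hom c' = a x from hc x, ha]

end Groth.L04.FrobH1
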