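import Groth.Agent.L04.FrobH1.DiffKer
import Groth.Agent.L17.ProjFormula
import Groth.Agent.L18.GenLocus
import Groth.Agent.L10.UnitsThick.Sheaf
import Mathlib.Algebra.Homology.DerivedCategory.Ext.ExactSequences

/-!
A Frobenius semilinear map carrying local bases to local bases is injective on `H¹` as soon as the
target has no global forms with values in it.
-/

set_option autoImplicit false
set_option maxSynthPendingDepth 3
set_option linter.style.haveILetI false
set_option backward.isDefEq.respectTransparency.types false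
set_option backward.isDefEq.respectTransparency false

universe u

open CategoryTheory CategoryTheory.Limits AlgebraicGeometry TopologicalSpace Opposite MonoidalCategory

noncomputable section

namespace Groth.L04.FrobH1

open Groth.L18.Frame (rs ro rs_rs rs_self rs_smul ro_ro ro_self)
open Groth.L18.GenLoc (tens tens_rs tens_smul_left tens_smul_right)
open Groth.L19.OmegaSh (der_map der_mul)

variable {X : Scheme.{u}}

/-- A finite basis over an open. -/
def IsBas (M : X.Modules) (W : X.Opens) {n : ℕ} (e : Fin n → Γ(M, W)) : Prop :=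
  ∀ (V : X.Opens) (h : V ≤ W), Function.Bijective fun r : Fin n → Γ(X, V) => ∑ i, r i • rs M h (e i)

theorem isBas_of_isBasis {M : X.Modules} {W : X.Opens} {n : ℕ} {e : Fin n → Γ(M, W)}
    (h : Groth.L17.LocBases.IsBasis (O := X.sheaf) M e) : IsBas M W e := fun V hV => h V (homOfLE hV)

theorem isBasis_of_isBas {M : X.Modules} {W : X.Opens} {n : ℕ} {e : Fin n → Γ(M, W)}
    (h : IsBas M W e) : Groth.L17.LocBases.IsBasis (O := X.sheaf) M e := fun V g => h V (leOfHom g)

theorem IsBas.mono {M : X.Modules} {W : X.Opens} {n : ℕ} {e : Fin n → Γ(M, W)} (he : IsBas M W e)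
    {V : X.Opens} (h : V ≤ W) : IsBas M V fun i => rs M h (e i) := fun V' h' => by
  simpa only [rs_rs] using he V' (h'.trans h)

theorem IsBas.inj {M : X.Modules} {W : X.Opens} {n : ℕ} {e : Fin n → Γ(M, W)} (he : IsBas M W e)
    {a b : Fin n → Γ(X, W)} (h : ∑ i, a i • e i = ∑ i, b i • e i) : a = b :=
  (he W le_rfl).1 (by simpa only [rs_self] using h)

theorem IsBas.exists_coords {M : X.Modules} {W : X.Opens} {n : ℕ} {e : Fin n → Γ(M, W)}
    (he : IsBas M W e) (z : Γ(M, W)) : ∃ a : Fin n → Γ(X, W), ∑ i, a i • e i = z := by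
  obtain ⟨a, ha⟩ := (he W le_rfl).2 z
  exact ⟨a, by simpa only [rs_self] using ha⟩

theorem exists_isBas {M : X.Modules} (hM : FlatMod.IsFinLocFree M) (x : X) :
    ∃ (W : X.Opens) (n : ℕ) (e : Fin n → Γ(M, W)), x ∈ W ∧ IsBas M W e := by
  obtain ⟨U, n, hxU, ⟨e⟩⟩ := hM x
  obtain ⟨s, hs⟩ := Groth.L17.FinLocBases.exists_isBasis M e
  have hU : U.ι ''ᵁ ⊤ = U := (Scheme.Hom.image_top_eq_opensRange U.ι).trans U.opensRange_ι
  exact ⟨_, n, s, hU.symm ▸ hxU, isBas_of_isBasis hs⟩

theorem rs_sum (M : X.Modules) {U V : X.Opens} (h : V ≤ U) {ι : Type*} (t : Finset ι)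
    (x : ι → Γ(M, U)) : rs M h (∑ i ∈ t, x i) = ∑ i ∈ t, rs M h (x i) :=
  map_sum (M.presheaf.map (homOfLE h).op).hom _ _

variable {P Ω : X.Modules}

theorem tens_add_left {U : X.Opens} (m m' : Γ(P, U)) (w : Γ(Ω, U)) :
    tens P Ω U (m + m') w = tens P Ω U m w + tens P Ω U m' w :=
  (congrArg ((Groth.L00.Tensor.unit (Groth.L00.Tensor.pre P ⊗ Groth.L00.Tensor.pre Ω)).app (op U))
    (TensorProduct.add_tmul _ _ _)).trans (map_add _ _ _)

theorem tens_add_right {U : X.Opens} (m : Γ(P, U)) (w w' : Γ(Ω, U)) :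
    tens P Ω U m (w + w') = tens P Ω U m w + tens P Ω U m w' :=
  (congrArg ((Groth.L00.Tensor.unit (Groth.L00.Tensor.pre P ⊗ Groth.L00.Tensor.pre Ω)).app (op U))
    (TensorProduct.tmul_add _ _ _)).trans (map_add _ _ _)

/-- The right-hand factor as an additive map. -/
def tensR {U : X.Opens} (m : Γ(P, U)) : Γ(Ω, U) →+ Γ(CohB1.tensorMod P Ω, U) :=
  AddMonoidHom.mk' (tens P Ω U m) (tens_add_right m)

/-- The left-hand factor as an additive map. -/
def tensL {U : X.Opens} (w : Γ(Ω, U)) : Γ(P, U) →+ Γ(CohB1.tensorMod P Ω, U) :=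
  AddMonoidHom.mk' (fun m => tens P Ω U m w) fun m m' => tens_add_left m m' w

theorem tens_sum_left {U : X.Opens} {ι : Type*} (t : Finset ι) (m : ι → Γ(P, U)) (w : Γ(Ω, U)) :
    tens P Ω U (∑ i ∈ t, m i) w = ∑ i ∈ t, tens P Ω U (m i) w := map_sum (tensL w) _ _

theorem tens_sum_right {U : X.Opens} {ι : Type*} (t : Finset ι) (m : Γ(P, U)) (w : ι → Γ(Ω, U)) :
    tens P Ω U m (∑ i ∈ t, w i) = ∑ i ∈ t, tens P Ω U m (w i) := map_sum (tensR m) _ _

/-- Coefficients along a basis of the left factor are unique. -/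
theorem IsBas.tens_inj (hP : FlatMod.IsFinLocFree P) {W : X.Opens} {n : ℕ} {t : Fin n → Γ(P, W)}
    (ht : IsBas P W t) {w : Fin n → Γ(Ω, W)} (h : ∑ i, tens P Ω W (t i) (w i) = 0) : w = 0 := by
  have hb := (Groth.L17.ProjFormula.bijective_unit_tensor P Ω hP t (isBasis_of_isBas ht)).comp
    (Groth.L17.ProjFormula.bijective_coords P Ω t (isBasis_of_isBas ht))
  have key : ∀ w : Fin n → Γ(Ω, W),
      (Groth.L00.Tensor.unit (Groth.L00.Tensor.pre P ⊗ Groth.L00.Tensor.pre Ω)).app (op W)
        (∑ i, Groth.L17.LocBases.tm (O := X.sheaf) (P := Groth.L00.Tensor.pre P)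
          (Q := Groth.L00.Tensor.pre Ω) (t i) (w i)) = ∑ i, tens P Ω W (t i) (w i) :=
    fun w => map_sum _ _ _
  refine hb.1 ((key w).trans (h.trans ?_))
  refine ((key 0).trans (Finset.sum_eq_zero fun i _ => ?_)).symm
  exact map_zero (tensR (t i))

variable {p : ℕ} [Fact p.Prime] [FrobSch.IsCharP X p] {M : X.Modules}
  (φ : Coh.toAb M ⟶ Coh.toAb P)

/-- The value of a map of abelian sheaves on sections. -/
abbrev val (U : X.Opens) (x : Γ(M, U)) : Γ(P, U) := φ.hom.app (op U) x

omit [Fact p.Prime] [FrobSch.IsCharP X p] in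
theorem val_rs {U V : X.Opens} (h : V ≤ U) (x : Γ(M, U)) : rs P h (val φ U x) = val φ V (rs M h x) :=
  (congrArg (fun g => g.hom x) (φ.hom.naturality (homOfLE h).op)).symm

variable (hsemi : ∀ (U : X.Opens) (a : Γ(X, U)) (x : Γ(M, U)), val φ U (a • x) = a ^ p • val φ U x)

include hsemi in
omit [Fact p.Prime] [FrobSch.IsCharP X p] in
theorem val_sum {U : X.Opens} {n : ℕ} (c : Fin n → Γ(X, U)) (e : Fin n → Γ(M, U)) :
    val φ U (∑ i, c i • e i) = ∑ i, c i ^ p • val φ U (e i) :=
  (map_sum (φ.hom.app (op U)).hom _ _).trans (Finset.sum_congr rfl fun i _ => hsemi U (c i) (e i))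

variable {Y : Scheme.{u}} {g : X ⟶ Y}
  (d : OmegaSh.Der g Ω)

omit [Fact p.Prime] in
theorem der_pow_mul {U : X.Opens} (c b : Γ(X, U)) :
    d.app U (c ^ p * b) = c ^ p • d.app U b ∧ d.app U (c ^ p) = 0 := by
  have h : ∀ m : ℕ, d.app U (c ^ (m + 1)) = ((m + 1 : ℕ) : Γ(X, U)) • c ^ m • d.app U c := by
    intro m
    induction m with
    | zero => simp
    | succ m ih =>
      rw [pow_succ, der_mul, ih, smul_smul, smul_smul, smul_smul, ← add_smul]
      congr 1
      push_cast
      ring
  have h0 : d.app U (c ^ p) = 0 := by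
    rcases p with _ | m
    · rw [pow_zero]
      have h1 := der_mul d (1 : Γ(X, U)) 1
      rw [mul_one, one_smul] at h1
      simpa using h1
    · rw [h m, FrobSch.natCast_eq_zero_app X (m + 1) U, zero_smul]
  exact ⟨by rw [der_mul, h0, smul_zero, add_zero], h0⟩

include hsemi in
omit [Fact p.Prime] in
/-- The connection does not depend on the basis and kills the image. -/
theorem conn_eq {W : X.Opens} {n m : ℕ} {e : Fin n → Γ(M, W)} {e' : Fin m → Γ(M, W)}
    (he : IsBas M W e) (heP : IsBas P W fun i => val φ W (e i))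
    (b : Fin n → Γ(X, W)) (b' : Fin m → Γ(X, W)) (z : Γ(M, W))
    (h : ∑ i, b i • val φ W (e i) = (∑ j, b' j • val φ W (e' j)) + val φ W z) :
    ∑ i, tens P Ω W (val φ W (e i)) (d.app W (b i)) =
      ∑ j, tens P Ω W (val φ W (e' j)) (d.app W (b' j)) := by
  choose C hC using fun j => he.exists_coords (e' j)
  obtain ⟨c, hc⟩ := he.exists_coords z
  have hb : b = fun i => (∑ j, C j i ^ p * b' j) + c i ^ p := by
    refine heP.inj (h.trans ?_)
    conv_rhs => simp only [add_smul, Finset.sum_smul, Finset.sum_add_distrib]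
    rw [Finset.sum_comm, ← val_sum φ hsemi c e, hc]
    congr 1
    refine Finset.sum_congr rfl fun j _ => ?_
    rw [← hC j, val_sum φ hsemi, Finset.smul_sum]
    refine Finset.sum_congr rfl fun i _ => ?_
    rw [smul_smul, mul_comm]
  have hd : ∀ i, d.app W (b i) = ∑ j, C j i ^ p • d.app W (b' j) := fun i => by
    rw [hb]
    simp only [map_add, map_sum, (der_pow_mul (p := p) d (c i) 0).2, add_zero,
      (der_pow_mul (p := p) d (C _ i) (b' _)).1]
  simp only [hd, tens_sum_right, tens_smul_right]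
  rw [Finset.sum_comm]
  refine Finset.sum_congr rfl fun j _ => ?_
  rw [← hC j, val_sum φ hsemi, tens_sum_left]
  exact Finset.sum_congr rfl fun i _ => (tens_smul_left _ _ _).symm

include hsemi in
omit [FrobSch.IsCharP X p] in
/-- Local injectivity. -/
theorem mono_of_bases [IsReduced X]
    (hloc : ∀ x : X, ∃ (W : X.Opens) (n : ℕ) (e : Fin n → Γ(M, W)),
      x ∈ W ∧ IsBas M W e ∧ IsBas P W fun i => val φ W (e i)) : Mono φ := by
  haveI : Mono φ.hom := by
    haveI : ∀ U, Mono (φ.hom.app U) := fun U => by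
      induction U using Opposite.rec with
      | _ U =>
        rw [AddCommGrpCat.mono_iff_injective, injective_iff_map_eq_zero]
        intro z hz
        let z' : Γ(M, U) := z
        show z' = 0
        refine Groth.L10.UnitsThick.eq_of_locally (F := Coh.toAb M) fun x hx => ?_
        obtain ⟨W, n, e, hxW, he, heP⟩ := hloc x
        have hU : W ⊓ U ≤ U := inf_le_right
        have hW : W ⊓ U ≤ W := inf_le_left
        refine ⟨W ⊓ U, ⟨hxW, hx⟩, homOfLE hU, ?_⟩
        show rs M hU z' = rs M hU 0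
        rw [show rs M hU (0 : Γ(M, U)) = 0 from map_zero _]
        obtain ⟨c, hc⟩ := (he.mono hW).exists_coords (rs M hU z')
        have h0 : val φ (W ⊓ U) (rs M hU z') = 0 := by
          rw [← val_rs, show val φ U z' = 0 from hz]
          exact map_zero _
        rw [← hc, val_sum φ hsemi] at h0
        have hc0 : (fun i => c i ^ p) = fun _ => 0 := (heP.mono hW).inj (by
          simp only [val_rs, h0, zero_smul, Finset.sum_const_zero])
        rw [← hc]
        exact Finset.sum_eq_zero fun i _ => by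
          rw [show c i = 0 from (pow_eq_zero_iff (Fact.out : p.Prime).ne_zero).1 (congrFun hc0 i),
            zero_smul]
    exact NatTrans.mono_of_mono_app _
  exact (sheafToPresheaf _ _).mono_of_mono_map ‹Mono φ.hom›

include hsemi in
/-- The map on `H¹` is injective. -/
theorem injective_H1 [IsReduced X] (hP : FlatMod.IsFinLocFree P)
    (hker : ∀ (U : X.Opens) (b : Γ(X, U)), d.app U b = 0 → ∃ a : Γ(X, U), a ^ p = b)
    (hloc : ∀ x : X, ∃ (W : X.Opens) (n : ℕ) (e : Fin n → Γ(M, W)),
      x ∈ W ∧ IsBas M W e ∧ IsBas P W fun i => val φ W (e i))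
    (h0 : Subsingleton (Coh.HH X (CohB1.tensorMod P Ω) 0)) :
    Function.Injective (Sheaf.H.map φ 1) := by
  haveI := mono_of_bases φ hsemi hloc
  let S := ShortComplex.mk φ (cokernel.π φ) (cokernel.condition φ)
  have hS : S.ShortExact := { exact := S.exact_of_g_is_cokernel (cokernelIsCokernel φ) }
  have hΩ : ∀ w : Γ(CohB1.tensorMod P Ω, ⊤), w = 0 := by
    haveI : Subsingleton (Sheaf.H (Coh.toAb (CohB1.tensorMod P Ω)) 0) := h0
    exact fun w => (Sheaf.H.equiv₀ (Coh.toAb (CohB1.tensorMod P Ω)) isTerminalTop).symm.injective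
      (Subsingleton.elim _ _)
  have hQ : ∀ q : (cokernel φ).obj.obj (op ⊤), q = 0 := by
    intro q
    have hlift : ∀ x : X, ∃ (W : X.Opens) (n : ℕ) (e : Fin n → Γ(M, W)) (b : Fin n → Γ(X, W)),
        x ∈ W ∧ IsBas M W e ∧ IsBas P W (fun i => val φ W (e i)) ∧
          (cokernel.π φ).hom.app (op W) (∑ i, b i • val φ W (e i) : Γ(P, W)) =
            (cokernel φ).obj.map (homOfLE (le_top : W ≤ ⊤)).op q := fun x => by
      obtain ⟨V, hxV, i, t, ht⟩ :=
        Groth.L10.UnitsThick.exists_local_lift (cokernel.π φ) q (Opens.mem_top x)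
      obtain ⟨W, n, e, hxW, he, heP⟩ := hloc x
      let t' : Γ(P, V) := t
      have hV : W ⊓ V ≤ V := inf_le_right
      have hW : W ⊓ V ≤ W := inf_le_left
      obtain ⟨b, hb⟩ := (heP.mono hW).exists_coords (rs P hV t')
      refine ⟨W ⊓ V, n, fun i => rs M hW (e i), b, ⟨hxW, hxV⟩, he.mono hW,
        by simpa only [← val_rs] using heP.mono hW, ?_⟩
      simp only [← val_rs, hb]
      have h1 := congrArg (fun g => g.hom t) ((cokernel.π φ).hom.naturality (homOfLE hV).op)
      refine h1.trans ?_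
      show (cokernel φ).obj.map (homOfLE hV).op ((cokernel.π φ).hom.app (op V) t) = _
      rw [ht, ← ConcreteCategory.comp_apply, ← Functor.map_comp]
      rfl
    choose W n e b hxW he heP hb using hlift
    let ω : ∀ x : X, Γ(CohB1.tensorMod P Ω, W x) := fun x =>
      ∑ i, tens P Ω (W x) (val φ (W x) (e x i)) (d.app (W x) (b x i))
    have hres : ∀ (x : X) {V : X.Opens} (h : V ≤ W x), rs (CohB1.tensorMod P Ω) h (ω x) =
        ∑ i, tens P Ω V (val φ V (rs M h (e x i))) (d.app V (ro h (b x i))) := fun x V h => by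
      rw [rs_sum]
      exact Finset.sum_congr rfl fun i _ => by rw [tens_rs, val_rs, der_map]
    have hcov : (⊤ : X.Opens) ≤ iSup W := fun x _ => Opens.mem_iSup.2 ⟨x, hxW x⟩
    let OM : TopCat.Sheaf Ab.{u} X.toTopCat :=
      ⟨(CohB1.tensorMod P Ω).presheaf, (CohB1.tensorMod P Ω).isSheaf⟩
    obtain ⟨w, hw, -⟩ := OM.existsUnique_gluing' W ⊤ (fun x => homOfLE le_top) hcov ω fun x y => by
      show rs (CohB1.tensorMod P Ω) inf_le_left (ω x) = rs (CohB1.tensorMod P Ω) inf_le_right (ω y)
      rw [hres, hres]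
      have hx : W x ⊓ W y ≤ W x := inf_le_left
      have hy : W x ⊓ W y ≤ W y := inf_le_right
      let V := W x ⊓ W y
      let sx : Γ(P, V) := ∑ i, ro hx (b x i) • val φ V (rs M hx (e x i))
      let sy : Γ(P, V) := ∑ i, ro hy (b y i) • val φ V (rs M hy (e y i))
      have hq : ∀ (z : X) (h : V ≤ W z),
          (cokernel.π φ).hom.app (op V) (∑ i, ro h (b z i) • val φ V (rs M h (e z i)) : Γ(P, V)) =
            (cokernel φ).obj.map (homOfLE (le_top : V ≤ ⊤)).op q := fun z h => by
        have h1 : (∑ i, ro h (b z i) • val φ V (rs M h (e z i)) : Γ(P, V)) =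
            rs P h (∑ i, b z i • val φ (W z) (e z i)) := by
          rw [rs_sum]
          exact Finset.sum_congr rfl fun i _ => by rw [rs_smul, val_rs]
        rw [h1]
        refine (congrArg (fun g => g.hom (∑ i, b z i • val φ (W z) (e z i) : Γ(P, W z)))
          ((cokernel.π φ).hom.naturality (homOfLE h).op)).trans ?_
        show (cokernel φ).obj.map (homOfLE h).op _ = _
        refine (congrArg _ (hb z)).trans ?_
        rw [← ConcreteCategory.comp_apply, ← Functor.map_comp]
        rfl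
      obtain ⟨z, hz⟩ := (Groth.L10.UnitsThick.cokernel_sections φ V (sx - sy)).1 (by
        show (cokernel.π φ).hom.app (op V) (sx - sy) = 0
        rw [map_sub]
        exact sub_eq_zero.2 ((hq x hx).trans (hq y hy).symm))
      exact conn_eq φ hsemi d ((he x).mono hx) (by simpa only [← val_rs] using (heP x).mono hx) _ _ z
        (by rw [show val φ V z = sx - sy from hz]; exact (add_sub_cancel sy sx).symm)
    refine Groth.L10.UnitsThick.eq_of_locally fun x _ => ⟨W x, hxW x, homOfLE le_top, ?_⟩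
    have hω : ω x = 0 := (hw x).symm.trans ((congrArg _ (hΩ w)).trans (map_zero _))
    choose a ha using fun i => hker (W x) (b x i) (congrFun ((heP x).tens_inj hP hω) i)
    refine (hb x).symm.trans (Eq.trans ?_ (map_zero _).symm)
    refine (Groth.L10.UnitsThick.cokernel_sections φ (W x) _).2 ⟨∑ i, a i • e x i, ?_⟩
    refine (val_sum φ hsemi a (e x)).trans ?_
    simp only [ha]
  rw [injective_iff_map_eq_zero]
  intro v hv
  obtain ⟨x, hx⟩ := Abelian.Ext.covariant_sequence_exact₁ _ hS v hv rfl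
  rw [← hx, show x = 0 from (Sheaf.H.equiv₀ (cokernel φ) isTerminalTop).injective
    ((hQ _).trans (map_zero _).symm), Abelian.Ext.zero_comp]

end Groth.L04.FrobH1
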